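import Mathlib.GroupTheory.Index
import Mathlib.Data.ZMod.QuotientGroup
import Mathlib.LinearAlgebra.Matrix.Rank
import Mathlib.Algebra.GCDMonoid.Finset
import Mathlib.Algebra.GCDMonoid.Nat
import Mathlib.RingTheory.Int.Basic
import Mathlib.LinearAlgebra.Dimension.RankNullity
import Mathlib.LinearAlgebra.FreeModule.PID
import Mathlib.LinearAlgebra.Dimension.Localization
import Mathlib.Tactic.LinearCombination
import Mathlib.Tactic.Ring

/-! Index computations for the sum-of-coordinates lattice. -/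

namespace Groth.Agent.CompLatLib

open Finset Matrix

variable {n : ℕ} (δ : Fin n → ℤ)

/-- Coordinatewise multiplication. -/
def dmul : (Fin n → ℤ) →+ (Fin n → ℤ) := AddMonoidHom.mk' (fun x i => δ i * x i) fun x y => funext fun i => mul_add _ _ _

/-- Sum of coordinates. -/
def total : (Fin n → ℤ) →+ ℤ := AddMonoidHom.mk' (fun x => ∑ i, x i) fun x y => by simp [Finset.sum_add_distrib]

theorem dmul_injective (hδ : ∀ i, δ i ≠ 0) : Function.Injective (dmul δ) := fun x y h =>
  funext fun i => mul_left_cancel₀ (hδ i) (congrFun h i)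

theorem range_dmul : (dmul δ).range = AddSubgroup.pi Set.univ fun i => AddSubgroup.zmultiples (δ i) := by
  ext x
  constructor
  · rintro ⟨y, rfl⟩ i -
    exact Int.mem_zmultiples_iff.2 ⟨y i, rfl⟩
  · intro h
    choose c hc using fun i => Int.mem_zmultiples_iff.1 (h i trivial)
    exact ⟨c, funext fun i => (hc i).symm⟩

theorem index_range_dmul : (dmul δ).range.index = ∏ i, (δ i).natAbs := by
  rw [range_dmul, AddSubgroup.index_pi]
  simp [Int.index_zmultiples]

theorem map_total_range (hn : 0 < n) : (dmul δ).range.map total = AddSubgroup.zmultiples (univ.gcd δ) := by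
  refine le_antisymm ?_ ?_
  · rintro _ ⟨_, ⟨y, rfl⟩, rfl⟩
    refine Int.mem_zmultiples_iff.2 ?_
    show _ ∣ ∑ i, δ i * y i
    exact (Finset.dvd_sum fun i _ => (Finset.gcd_dvd (Finset.mem_univ i)).trans (dvd_mul_right _ _))
  · rw [AddSubgroup.zmultiples_le]
    obtain ⟨c, hc⟩ := Finset.gcd_eq_sum_mul univ δ
    exact ⟨dmul δ c, ⟨c, rfl⟩, hc.symm⟩

theorem total_surjective (hn : 0 < n) : Function.Surjective (total (n := n)) := fun m =>
  ⟨Pi.single ⟨0, hn⟩ m, by simp [total]⟩

/-- `[ker S : D (ker SD)] · d = |det D|`. -/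
theorem relIndex_mul_gcd (hn : 0 < n) :
    (((total.comp (dmul δ)).ker.map (dmul δ)).relIndex (total (n := n)).ker : ℤ) * univ.gcd δ = |∏ i, δ i| := by
  set D := dmul δ
  set L := (total (n := n)).ker
  have e1 : (total.comp D).ker.map D = D.range ⊓ L := by
    ext x
    constructor
    · rintro ⟨y, hy, rfl⟩
      exact ⟨⟨y, rfl⟩, hy⟩
    · rintro ⟨⟨y, rfl⟩, hy⟩
      exact ⟨y, hy, rfl⟩
  have e2 : L ⊔ D.range = (AddSubgroup.zmultiples (univ.gcd δ)).comap total := by
    rw [← map_total_range δ hn, AddSubgroup.comap_map_eq, sup_comm]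
  have e3 := AddSubgroup.relIndex_mul_index (H := D.range) (K := L ⊔ D.range) le_sup_right
  rw [AddSubgroup.relIndex_sup_right, ← AddSubgroup.inf_relIndex_right, ← e1, e2,
    AddSubgroup.index_comap_of_surjective _ (total_surjective hn), Int.index_zmultiples, index_range_dmul] at e3
  have hg : (univ.gcd δ).natAbs = univ.gcd δ := Int.natAbs_of_nonneg (Int.nonneg_of_normalize_eq_self Finset.normalize_gcd)
  rw [← hg, ← Nat.cast_mul, e3, Finset.abs_prod, Nat.cast_prod]
  simp

theorem ker_eq_zmultiples {A : Matrix (Fin n) (Fin n) ℤ} (hn : 0 < n) (hA : A.rank = n - 1) {δ' v : Fin n → ℤ}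
    (hδ' : ∀ i, δ' i ≠ 0) (hker : A.mulVecLin δ' = 0) (hv : ∀ i, δ' i = univ.gcd δ' * v i) :
    A.mulVecLin.toAddMonoidHom.ker = (zmultiplesHom (Fin n → ℤ) v).range := by
  have hd : univ.gcd δ' ≠ 0 := fun h => hδ' ⟨0, hn⟩ (by rw [hv, h, zero_mul])
  have hvker : A.mulVecLin v = 0 := by
    have : δ' = univ.gcd δ' • v := funext hv
    rw [this, map_smul] at hker
    exact (smul_eq_zero.1 hker).resolve_left hd
  have hr : Module.finrank ℤ (LinearMap.ker A.mulVecLin) = 1 := by
    have h1 := Submodule.finrank_quotient_add_finrank (LinearMap.ker A.mulVecLin)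
    rw [A.mulVecLin.quotKerEquivRange.finrank_eq, Module.finrank_fin_fun] at h1
    have h2 : Module.finrank ℤ (LinearMap.range A.mulVecLin) = n - 1 := hA
    omega
  refine le_antisymm (fun x hx => ?_) ?_
  · let b := Module.finBasisOfFinrankEq ℤ (LinearMap.ker A.mulVecLin) hr
    have hx' : (⟨x, hx⟩ : LinearMap.ker A.mulVecLin) = b.repr ⟨x, hx⟩ 0 • b 0 := by
      conv_lhs => rw [← b.sum_repr ⟨x, hx⟩]
      simp
    have hv' : (⟨v, hvker⟩ : LinearMap.ker A.mulVecLin) = b.repr ⟨v, hvker⟩ 0 • b 0 := by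
      conv_lhs => rw [← b.sum_repr ⟨v, hvker⟩]
      simp
    have par : ∀ i j, x i * v j = x j * v i := fun i j => by
      have a1 := congrArg (fun z : LinearMap.ker A.mulVecLin => (z : Fin n → ℤ)) hx'
      have a2 := congrArg (fun z : LinearMap.ker A.mulVecLin => (z : Fin n → ℤ)) hv'
      simp only [Submodule.coe_smul] at a1 a2
      rw [a1, a2]
      simp only [Pi.smul_apply, smul_eq_mul]
      ring
    obtain ⟨c, hc⟩ := Finset.gcd_eq_sum_mul univ δ'
    have hc1 : ∑ i, v i * c i = 1 := mul_left_cancel₀ hd (by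
      rw [Finset.mul_sum, mul_one]
      refine Eq.trans ?_ hc.symm
      exact Finset.sum_congr rfl fun i _ => by rw [hv i, mul_assoc])
    refine ⟨∑ i, x i * c i, funext fun j => ?_⟩
    show (∑ i, x i * c i) * v j = x j
    rw [Finset.sum_mul, show x j = x j * ∑ i, v i * c i by rw [hc1, mul_one], Finset.mul_sum]
    exact Finset.sum_congr rfl fun i _ => by linear_combination c i * par i j
  · rintro _ ⟨m, rfl⟩
    show A.mulVecLin (m • v) = 0
    rw [map_smul, hvker, smul_zero]

theorem relIndex_range_comp {A : Matrix (Fin n) (Fin n) ℤ} (hn : 0 < n) (hA : A.rank = n - 1) {δ' : Fin n → ℤ}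
    (hδ : ∀ i, δ i ≠ 0) (hδ' : ∀ i, δ' i ≠ 0) (hker : A.mulVecLin δ' = 0) :
    ((((dmul δ).comp A.mulVecLin.toAddMonoidHom).comp (dmul δ')).range.relIndex
      ((dmul δ).comp A.mulVecLin.toAddMonoidHom).range : ℤ) * univ.gcd δ' = |∏ i, δ' i| := by
  set f := (dmul δ).comp A.mulVecLin.toAddMonoidHom with hf
  choose v hv using fun i => Finset.gcd_dvd (f := δ') (Finset.mem_univ i)
  have hd : univ.gcd δ' ≠ 0 := fun h => hδ' ⟨0, hn⟩ (by rw [hv, h, zero_mul])
  have hk : f.ker = (zmultiplesHom (Fin n → ℤ) v).range := by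
    rw [← ker_eq_zmultiples hn hA hδ' hker hv]
    ext x
    exact ⟨fun h => dmul_injective δ hδ (h.trans (map_zero (dmul δ)).symm),
      fun h => (congrArg (dmul δ) h).trans (map_zero _)⟩
  rw [AddMonoidHom.range_comp, AddMonoidHom.range_eq_map f, AddSubgroup.relIndex_map_map, top_sup_eq,
    AddSubgroup.relIndex_top_right, hk]
  set H := (dmul δ').range
  set Z := (zmultiplesHom (Fin n → ℤ) v).range
  have hZ : H.relIndex Z = (univ.gcd δ').natAbs := by
    rw [← AddSubgroup.index_comap, show H.comap (zmultiplesHom (Fin n → ℤ) v) = AddSubgroup.zmultiples (univ.gcd δ') from ?_,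
      Int.index_zmultiples]
    ext m
    rw [Int.mem_zmultiples_iff, AddSubgroup.mem_comap]
    constructor
    · rintro ⟨y, hy⟩
      obtain ⟨c, hc⟩ := Finset.gcd_eq_sum_mul univ δ'
      have hc1 : ∑ i, v i * c i = 1 := mul_left_cancel₀ hd (by
        rw [Finset.mul_sum, mul_one]
        refine Eq.trans ?_ hc.symm
        exact Finset.sum_congr rfl fun i _ => by rw [hv i, mul_assoc])
      refine ⟨∑ i, v i * y i * c i, ?_⟩
      rw [Finset.mul_sum, show m = ∑ i, m * (v i * c i) by rw [← Finset.mul_sum, hc1, mul_one]]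
      refine Finset.sum_congr rfl fun i _ => ?_
      have h1 : δ' i * y i = m * v i := congrFun hy i
      rw [hv] at h1
      linear_combination -(c i) * h1
    · rintro ⟨e, rfl⟩
      exact ⟨fun _ => e, funext fun i => by
        show δ' i * e = univ.gcd δ' * e * v i
        rw [hv]; ring⟩
  have e3 := AddSubgroup.relIndex_mul_index (H := H) (K := Z ⊔ H) le_sup_right
  rw [AddSubgroup.relIndex_sup_right, hZ, index_range_dmul, sup_comm] at e3
  have hg : (univ.gcd δ').natAbs = univ.gcd δ' := Int.natAbs_of_nonneg (Int.nonneg_of_normalize_eq_self Finset.normalize_gcd)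
  rw [mul_comm, ← hg, ← Nat.cast_mul, e3, Finset.abs_prod, Nat.cast_prod]
  simp

theorem card_quotient_eq_relIndex {P Q : Submodule ℤ (Fin n → ℤ)} :
    Nat.card (Q ⧸ P.comap Q.subtype) = P.toAddSubgroup.relIndex Q.toAddSubgroup := rfl

end Groth.Agent.CompLatLib
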